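import Cfsg.Agent.Holt.AS

/-! # Holt's theorem: basic lemmas (see `Holt/Gen`, `Holt/Cfg`, `Holt/AS`) -/
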