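import Cfsg.Agent.Holt.WWA
import Cfsg.Agent.Holt.WWB
import Cfsg.Agent.Holt.WWC

/-!
# Holt's theorem: exceptional elements of lines (re-export)
-/
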